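import Cfsg.Agent.Spor.ThB.D0

set_option autoImplicit false
set_option maxRecDepth 100000000
set_option Elab.async false

namespace Cfsg.Agent.Spor.ThB

theorem TU19ok : PA.gensOk ThQ.A TU19 2 = true := by decide +kernel

theorem tw19 : allN (fun j => PA.isW ThQ.A ThQ.TT (nth [] [[8, 6, 4, 6, 8, 2, 4, 6, 4, 6, 8, 10, 8, 10, 2, 5, 7, 5, 9, 7, 5, 3, 10, 9, 7], [10, 12, 8, 4, 6, 4, 6, 2, 4, 6, 8, 10, 6, 4, 6, 3, 5, 3, 7, 9]] j) (nth ThQ.A.one TU19 (2 * j))) 2 = true := by decide +kernel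

theorem ea19 : leq GS19 (PA.evs ThQ.A TU19 [[1, 1, 2, 1, 3], [0, 0, 0], [0, 3, 1, 2], [1, 2, 0, 3], [1, 3, 0, 2]]) = true := by decide +kernel

theorem eb19 : PA.enum ThQ.A TL19 GS19 [0, 0, 0, 1, 0, 2, 0, 3, 0, 4, 1, 1, 1, 2, 1, 3, 1, 4, 2, 2, 2, 3, 2, 4, 3, 3, 3, 4, 4, 4, 6, 2, 6, 3, 6, 4, 7, 3, 7, 4, 8, 4, 10, 3, 10, 4, 11, 4, 13, 4, 16, 3, 16, 4, 17, 4, 19, 4, 22, 4, 26, 4] = true := by decide +kernel

theorem ec19 : PA.closed ThQ.A TL19 GS19 = true := by decide +kernel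

theorem ed19 : band (nodup TL19) (band (lall (PA.bd ThQ.A) TL19) (Nat.beq (llen TL19) 32)) = true := by decide +kernel

theorem ee19 : band (PA.isW ThQ.A ThQ.TT [0] ThQ.m1) (band (Nat.beq (PA.pw ThQ.A ThQ.m1 2) ThQ.A.one) (band (leq HL19 (PA.evs ThQ.A ThQ.TT [[6, 2, 4, 6, 2, 4, 0, 2], [6, 4, 6, 2, 4, 0, 2], [6, 0, 2, 4, 6, 2, 4, 0, 2]])) (PA.cls ThQ.A ThQ.m1 2 TL19 HL19 TL19 [0, 0, 0, 1, 0, 2]))) = true := by decide +kernel

theorem TU21ok : PA.gensOk ThQ.A TU21 2 = true := by decide +kernel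

theorem tw21 : allN (fun j => PA.isW ThQ.A ThQ.TT (nth [] [[11, 13, 8, 11, 4, 6, 8, 10, 2, 4, 6, 8, 6, 4, 6, 1, 3, 5, 7, 5, 9, 10, 9, 11], [13, 4, 6, 2, 4, 6, 0, 2, 4, 6, 8, 4, 6, 4]] j) (nth ThQ.A.one TU21 (2 * j))) 2 = true := by decide +kernel

theorem ea21 : leq GS21 (PA.evs ThQ.A TU21 [[1, 2, 1, 1, 3]]) = true := by decide +kernel

theorem eb21 : PA.enum ThQ.A TL21 GS21 [0, 0] = true := by decide +kernel

theorem ec21 : PA.closed ThQ.A TL21 GS21 = true := by decide +kernel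

theorem ed21 : band (nodup TL21) (band (lall (PA.bd ThQ.A) TL21) (Nat.beq (llen TL21) 2)) = true := by decide +kernel

theorem ee21 : band (PA.isW ThQ.A ThQ.TT [0] ThQ.m1) (band (Nat.beq (PA.pw ThQ.A ThQ.m1 2) ThQ.A.one) (band (leq HL21 (PA.evs ThQ.A ThQ.TT [])) (PA.cls ThQ.A ThQ.m1 2 TL21 HL21 TL21 []))) = true := by decide +kernel

theorem TU22ok : PA.gensOk ThQ.A TU22 2 = true := by decide +kernel

theorem tw22 : allN (fun j => PA.isW ThQ.A ThQ.TT (nth [] [[10, 2, 4, 6, 8, 10, 10, 0, 2, 4, 6, 8, 4, 6, 2, 0, 5, 3, 10, 9, 7, 5, 3, 7, 5, 10, 12], [12, 0, 2, 4, 6, 8, 11, 6, 4, 6, 2, 4, 6, 8, 6, 5, 7, 5, 12, 11, 9, 7, 10]] j) (nth ThQ.A.one TU22 (2 * j))) 2 = true := by decide +kernel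

theorem ea22 : leq GS22 (PA.evs ThQ.A TU22 [[0, 0, 0]]) = true := by decide +kernel

theorem eb22 : PA.enum ThQ.A TL22 GS22 [0, 0] = true := by decide +kernel

theorem ec22 : PA.closed ThQ.A TL22 GS22 = true := by decide +kernel

theorem ed22 : band (nodup TL22) (band (lall (PA.bd ThQ.A) TL22) (Nat.beq (llen TL22) 2)) = true := by decide +kernel

theorem ee22 : band (PA.isW ThQ.A ThQ.TT [0] ThQ.m1) (band (Nat.beq (PA.pw ThQ.A ThQ.m1 2) ThQ.A.one) (band (leq HL22 (PA.evs ThQ.A ThQ.TT [])) (PA.cls ThQ.A ThQ.m1 2 TL22 HL22 TL22 []))) = true := by decide +kernel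

theorem TU23ok : PA.gensOk ThQ.A TU23 2 = true := by decide +kernel

theorem tw23 : allN (fun j => PA.isW ThQ.A ThQ.TT (nth [] [[8, 6, 4, 6, 8, 6, 4, 6, 2, 4, 6, 0, 2, 4, 6, 1], [2, 4, 6, 0, 2, 4, 6, 8, 6, 4, 6, 2, 4, 6, 2, 0, 3, 5, 7]] j) (nth ThQ.A.one TU23 (2 * j))) 2 = true := by decide +kernel

theorem ea23 : leq GS23 (PA.evs ThQ.A TU23 [[1, 2]]) = true := by decide +kernel

theorem eb23 : PA.enum ThQ.A TL23 GS23 [0, 0] = true := by decide +kernel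

theorem ec23 : PA.closed ThQ.A TL23 GS23 = true := by decide +kernel

theorem ed23 : band (nodup TL23) (band (lall (PA.bd ThQ.A) TL23) (Nat.beq (llen TL23) 2)) = true := by decide +kernel

theorem ee23 : band (PA.isW ThQ.A ThQ.TT [0] ThQ.m1) (band (Nat.beq (PA.pw ThQ.A ThQ.m1 2) ThQ.A.one) (band (leq HL23 (PA.evs ThQ.A ThQ.TT [])) (PA.cls ThQ.A ThQ.m1 2 TL23 HL23 TL23 []))) = true := by decide +kernel

theorem TU25ok : PA.gensOk ThQ.A TU25 2 = true := by decide +kernel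

theorem tw25 : allN (fun j => PA.isW ThQ.A ThQ.TT (nth [] [[4, 6, 0, 2, 4, 6, 8, 6, 4, 6, 2, 4, 6, 8, 2, 0, 3, 5], [13, 8, 2, 4, 6, 0, 2, 4, 6, 4]] j) (nth ThQ.A.one TU25 (2 * j))) 2 = true := by decide +kernel

theorem ea25 : leq GS25 (PA.evs ThQ.A TU25 [[1, 2, 1, 1, 3]]) = true := by decide +kernel

theorem eb25 : PA.enum ThQ.A TL25 GS25 [0, 0] = true := by decide +kernel

theorem ec25 : PA.closed ThQ.A TL25 GS25 = true := by decide +kernel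

theorem ed25 : band (nodup TL25) (band (lall (PA.bd ThQ.A) TL25) (Nat.beq (llen TL25) 2)) = true := by decide +kernel

theorem ee25 : band (PA.isW ThQ.A ThQ.TT [0] ThQ.m1) (band (Nat.beq (PA.pw ThQ.A ThQ.m1 2) ThQ.A.one) (band (leq HL25 (PA.evs ThQ.A ThQ.TT [])) (PA.cls ThQ.A ThQ.m1 2 TL25 HL25 TL25 []))) = true := by decide +kernel

theorem TU27ok : PA.gensOk ThQ.A TU27 2 = true := by decide +kernel

theorem tw27 : allN (fun j => PA.isW ThQ.A ThQ.TT (nth [] [[10, 6, 8, 11, 12, 6, 4, 6, 8, 10, 6, 0, 2, 4, 2, 0, 3, 7, 9, 10, 9], [11, 8, 10, 13, 6, 8, 11, 4, 6, 2, 4, 6, 8, 6, 2, 0, 3, 5, 10, 9, 7, 5, 11]] j) (nth ThQ.A.one TU27 (2 * j))) 2 = true := by decide +kernel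

theorem ea27 : leq GS27 (PA.evs ThQ.A TU27 [[1, 1, 1], [0, 2, 1, 3]]) = true := by decide +kernel

theorem eb27 : PA.enum ThQ.A TL27 GS27 [0, 0, 0, 1, 1, 0, 1, 1, 2, 0, 3, 0, 3, 1] = true := by decide +kernel

theorem ec27 : PA.closed ThQ.A TL27 GS27 = true := by decide +kernel

theorem ed27 : band (nodup TL27) (band (lall (PA.bd ThQ.A) TL27) (Nat.beq (llen TL27) 8)) = true := by decide +kernel

theorem ee27 : band (PA.isW ThQ.A ThQ.TT [0] ThQ.m1) (band (Nat.beq (PA.pw ThQ.A ThQ.m1 2) ThQ.A.one) (band (leq HL27 (PA.evs ThQ.A ThQ.TT [])) (PA.cls ThQ.A ThQ.m1 2 TL27 HL27 TL27 []))) = true := by decide +kernel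

theorem TU28ok : PA.gensOk ThQ.A TU28 2 = true := by decide +kernel

theorem tw28 : allN (fun j => PA.isW ThQ.A ThQ.TT (nth [] [[10, 6, 8, 10, 2, 4, 6, 8, 11, 4, 6, 8, 4, 6, 4, 3, 1, 5, 7, 9, 7, 5, 12, 10, 9], [13, 11, 6, 8, 2, 4, 6, 4, 6, 8, 10, 10, 2, 4, 6, 5, 9, 7, 5, 3, 10, 9, 7, 5, 3, 10]] j) (nth ThQ.A.one TU28 (2 * j))) 2 = true := by decide +kernel

theorem ea28 : leq GS28 (PA.evs ThQ.A TU28 [[3, 3, 1, 3, 3, 0, 2], [1, 2, 0, 0, 0, 0, 3]]) = true := by decide +kernel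

theorem eb28 : PA.enum ThQ.A TL28 GS28 [0, 0, 0, 1, 1, 0, 1, 1, 2, 0, 3, 0, 3, 1] = true := by decide +kernel

theorem ec28 : PA.closed ThQ.A TL28 GS28 = true := by decide +kernel

theorem ed28 : band (nodup TL28) (band (lall (PA.bd ThQ.A) TL28) (Nat.beq (llen TL28) 8)) = true := by decide +kernel

theorem ee28 : band (PA.isW ThQ.A ThQ.TT [0] ThQ.m1) (band (Nat.beq (PA.pw ThQ.A ThQ.m1 2) ThQ.A.one) (band (leq HL28 (PA.evs ThQ.A ThQ.TT [])) (PA.cls ThQ.A ThQ.m1 2 TL28 HL28 TL28 []))) = true := by decide +kernel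

theorem TU29ok : PA.gensOk ThQ.A TU29 2 = true := by decide +kernel

theorem tw29 : allN (fun j => PA.isW ThQ.A ThQ.TT (nth [] [[10, 6, 8, 11, 4, 6, 4, 6, 8, 11, 8, 6, 2, 4, 6, 3, 5, 3, 9, 7, 5, 3, 10, 10, 10, 9, 7], [10, 8, 11, 4, 6, 8, 10, 2, 4, 6, 8, 0, 2, 4, 6, 3, 5, 3, 7, 9, 7, 13, 11, 9]] j) (nth ThQ.A.one TU29 (2 * j))) 2 = true := by decide +kernel

theorem ea29 : leq GS29 (PA.evs ThQ.A TU29 [[2, 0, 3, 0, 3, 0, 2]]) = true := by decide +kernel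

theorem eb29 : PA.enum ThQ.A TL29 GS29 [0, 0] = true := by decide +kernel

theorem ec29 : PA.closed ThQ.A TL29 GS29 = true := by decide +kernel

theorem ed29 : band (nodup TL29) (band (lall (PA.bd ThQ.A) TL29) (Nat.beq (llen TL29) 2)) = true := by decide +kernel

theorem ee29 : band (PA.isW ThQ.A ThQ.TT [0] ThQ.m1) (band (Nat.beq (PA.pw ThQ.A ThQ.m1 2) ThQ.A.one) (band (leq HL29 (PA.evs ThQ.A ThQ.TT [])) (PA.cls ThQ.A ThQ.m1 2 TL29 HL29 TL29 []))) = true := by decide +kernel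

end Cfsg.Agent.Spor.ThB
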