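import Cfsg.Agent.Spor.ThW.Main
import Cfsg.Agent.Spor.ThD.Z.Main
import Cfsg.Agent.Spor.ThB.C0

set_option autoImplicit false
set_option maxRecDepth 100000000
set_option Elab.async false

namespace Cfsg.Agent.Spor.ThB

open ThW

noncomputable abbrev p : ℕ → ThD.P := ThD.p
theorem commH : ∀ x ∈ wsub 7 p ThD.BW, x * z = z * x := ThR.gens.comm_words ThR.c1
theorem cls1 : Y.Cls' 7 p ThK.K z (1, [[11, 8, 11, 6, 4, 6, 8, 10, 2, 4, 6, 0, 2, 4, 6, 1, 9, 10], [13, 11, 8, 2, 4, 6, 0, 2, 4, 6, 8, 10, 8, 4, 6, 5, 7, 9]], 36864) := Or.inr (ThD.Z.cls1 commH ThW.wb11 ThW.wb15)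
theorem cls15 : Y.Cls' 7 p ThK.K z (15, [[11, 8, 11, 2, 4, 6, 8, 10, 4, 6, 2, 4, 6, 8, 6, 5, 7, 10, 10], [11, 13, 8, 10, 0, 2, 4, 6, 8, 0, 2, 4, 6, 4, 2, 0, 3, 10, 9, 7, 5, 3, 1, 10, 9]], 13824) := Or.inr (ThD.Z.cls15 commH ThW.wb24 ThW.wb30)
theorem gU19 : ThQ.X.Gens TU19 (atm 2 (wv 7 p [[8, 6, 4, 6, 8, 2, 4, 6, 4, 6, 8, 10, 8, 10, 2, 5, 7, 5, 9, 7, 5, 3, 10, 9, 7], [10, 12, 8, 4, 6, 4, 6, 2, 4, 6, 8, 10, 6, 4, 6, 3, 5, 3, 7, 9]])) := ThQ.gens.words TU19ok tw19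
theorem cS19 : Nat.card (wsub 7 p [[8, 6, 4, 6, 8, 2, 4, 6, 4, 6, 8, 10, 8, 10, 2, 5, 7, 5, 9, 7, 5, 3, 10, 9, 7], [10, 12, 8, 4, 6, 4, 6, 2, 4, 6, 8, 10, 6, 4, 6, 3, 5, 3, 7, 9]]) = 288 :=
  (ThC.done ThV.pres).card_S' (ThC.exact ThV.pres ThV.top ThZ.lbH) (x := (19, [[8, 6, 4, 6, 8, 2, 4, 6, 4, 6, 8, 10, 8, 10, 2, 5, 7, 5, 9, 7, 5, 3, 10, 9, 7], [10, 12, 8, 4, 6, 4, 6, 2, 4, 6, 8, 10, 6, 4, 6, 3, 5, 3, 7, 9]], 288)) 3 rfl (by norm_num)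
theorem en19 : ThQ.X.Enum (wsub 2 (wv 7 p [[8, 6, 4, 6, 8, 2, 4, 6, 4, 6, 8, 10, 8, 10, 2, 5, 7, 5, 9, 7, 5, 3, 10, 9, 7], [10, 12, 8, 4, 6, 4, 6, 2, 4, 6, 8, 10, 6, 4, 6, 3, 5, 3, 7, 9]]) [[1, 1, 2, 1, 3], [0, 0, 0], [0, 3, 1, 2], [1, 2, 0, 3], [1, 3, 0, 2]]) TL19 := gU19.enum ea19 eb19 ec19
theorem cls19 : Y.Cls' 7 p ThK.K z (19, [[8, 6, 4, 6, 8, 2, 4, 6, 4, 6, 8, 10, 8, 10, 2, 5, 7, 5, 9, 7, 5, 3, 10, 9, 7], [10, 12, 8, 4, 6, 4, 6, 2, 4, 6, 8, 10, 6, 4, 6, 3, 5, 3, 7, 9]], 288) :=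
  Or.inr (ThQ.gens.classes (wsub_le_gsub 2 _ _) en19 Nat.prime_two
    (not_dvd_relIndex (wsub_le_gsub 2 _ _) cS19 (en19.card ed19) (by norm_num)) ee19 (AllP.cons ThW.wb35 (AllP.cons ThW.wb42 (AllP.cons ThW.wb49 (AllP.nil)))))
theorem gU21 : ThQ.X.Gens TU21 (atm 2 (wv 7 p [[11, 13, 8, 11, 4, 6, 8, 10, 2, 4, 6, 8, 6, 4, 6, 1, 3, 5, 7, 5, 9, 10, 9, 11], [13, 4, 6, 2, 4, 6, 0, 2, 4, 6, 8, 4, 6, 4]])) := ThQ.gens.words TU21ok tw21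
theorem cS21 : Nat.card (wsub 7 p [[11, 13, 8, 11, 4, 6, 8, 10, 2, 4, 6, 8, 6, 4, 6, 1, 3, 5, 7, 5, 9, 10, 9, 11], [13, 4, 6, 2, 4, 6, 0, 2, 4, 6, 8, 4, 6, 4]]) = 486 :=
  (ThC.done ThV.pres).card_S' (ThC.exact ThV.pres ThV.top ThZ.lbH) (x := (21, [[11, 13, 8, 11, 4, 6, 8, 10, 2, 4, 6, 8, 6, 4, 6, 1, 3, 5, 7, 5, 9, 10, 9, 11], [13, 4, 6, 2, 4, 6, 0, 2, 4, 6, 8, 4, 6, 4]], 486)) 4 rfl (by norm_num)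
theorem en21 : ThQ.X.Enum (wsub 2 (wv 7 p [[11, 13, 8, 11, 4, 6, 8, 10, 2, 4, 6, 8, 6, 4, 6, 1, 3, 5, 7, 5, 9, 10, 9, 11], [13, 4, 6, 2, 4, 6, 0, 2, 4, 6, 8, 4, 6, 4]]) [[1, 2, 1, 1, 3]]) TL21 := gU21.enum ea21 eb21 ec21
theorem cls21 : Y.Cls' 7 p ThK.K z (21, [[11, 13, 8, 11, 4, 6, 8, 10, 2, 4, 6, 8, 6, 4, 6, 1, 3, 5, 7, 5, 9, 10, 9, 11], [13, 4, 6, 2, 4, 6, 0, 2, 4, 6, 8, 4, 6, 4]], 486) :=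
  Or.inr (ThQ.gens.classes (wsub_le_gsub 2 _ _) en21 Nat.prime_two
    (not_dvd_relIndex (wsub_le_gsub 2 _ _) cS21 (en21.card ed21) (by norm_num)) ee21 (AllP.nil))
theorem gU22 : ThQ.X.Gens TU22 (atm 2 (wv 7 p [[10, 2, 4, 6, 8, 10, 10, 0, 2, 4, 6, 8, 4, 6, 2, 0, 5, 3, 10, 9, 7, 5, 3, 7, 5, 10, 12], [12, 0, 2, 4, 6, 8, 11, 6, 4, 6, 2, 4, 6, 8, 6, 5, 7, 5, 12, 11, 9, 7, 10]])) := ThQ.gens.words TU22ok tw22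
theorem cS22 : Nat.card (wsub 7 p [[10, 2, 4, 6, 8, 10, 10, 0, 2, 4, 6, 8, 4, 6, 2, 0, 5, 3, 10, 9, 7, 5, 3, 7, 5, 10, 12], [12, 0, 2, 4, 6, 8, 11, 6, 4, 6, 2, 4, 6, 8, 6, 5, 7, 5, 12, 11, 9, 7, 10]]) = 54 :=
  (ThC.done ThV.pres).card_S' (ThC.exact ThV.pres ThV.top ThZ.lbH) (x := (22, [[10, 2, 4, 6, 8, 10, 10, 0, 2, 4, 6, 8, 4, 6, 2, 0, 5, 3, 10, 9, 7, 5, 3, 7, 5, 10, 12], [12, 0, 2, 4, 6, 8, 11, 6, 4, 6, 2, 4, 6, 8, 6, 5, 7, 5, 12, 11, 9, 7, 10]], 54)) 5 rfl (by norm_num)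
theorem en22 : ThQ.X.Enum (wsub 2 (wv 7 p [[10, 2, 4, 6, 8, 10, 10, 0, 2, 4, 6, 8, 4, 6, 2, 0, 5, 3, 10, 9, 7, 5, 3, 7, 5, 10, 12], [12, 0, 2, 4, 6, 8, 11, 6, 4, 6, 2, 4, 6, 8, 6, 5, 7, 5, 12, 11, 9, 7, 10]]) [[0, 0, 0]]) TL22 := gU22.enum ea22 eb22 ec22
theorem cls22 : Y.Cls' 7 p ThK.K z (22, [[10, 2, 4, 6, 8, 10, 10, 0, 2, 4, 6, 8, 4, 6, 2, 0, 5, 3, 10, 9, 7, 5, 3, 7, 5, 10, 12], [12, 0, 2, 4, 6, 8, 11, 6, 4, 6, 2, 4, 6, 8, 6, 5, 7, 5, 12, 11, 9, 7, 10]], 54) :=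
  Or.inr (ThQ.gens.classes (wsub_le_gsub 2 _ _) en22 Nat.prime_two
    (not_dvd_relIndex (wsub_le_gsub 2 _ _) cS22 (en22.card ed22) (by norm_num)) ee22 (AllP.nil))
theorem gU23 : ThQ.X.Gens TU23 (atm 2 (wv 7 p [[8, 6, 4, 6, 8, 6, 4, 6, 2, 4, 6, 0, 2, 4, 6, 1], [2, 4, 6, 0, 2, 4, 6, 8, 6, 4, 6, 2, 4, 6, 2, 0, 3, 5, 7]])) := ThQ.gens.words TU23ok tw23
theorem cS23 : Nat.card (wsub 7 p [[8, 6, 4, 6, 8, 6, 4, 6, 2, 4, 6, 0, 2, 4, 6, 1], [2, 4, 6, 0, 2, 4, 6, 8, 6, 4, 6, 2, 4, 6, 2, 0, 3, 5, 7]]) = 6 :=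
  (ThC.done ThV.pres).card_S' (ThC.exact ThV.pres ThV.top ThZ.lbH) (x := (23, [[8, 6, 4, 6, 8, 6, 4, 6, 2, 4, 6, 0, 2, 4, 6, 1], [2, 4, 6, 0, 2, 4, 6, 8, 6, 4, 6, 2, 4, 6, 2, 0, 3, 5, 7]], 6)) 6 rfl (by norm_num)
theorem en23 : ThQ.X.Enum (wsub 2 (wv 7 p [[8, 6, 4, 6, 8, 6, 4, 6, 2, 4, 6, 0, 2, 4, 6, 1], [2, 4, 6, 0, 2, 4, 6, 8, 6, 4, 6, 2, 4, 6, 2, 0, 3, 5, 7]]) [[1, 2]]) TL23 := gU23.enum ea23 eb23 ec23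
theorem cls23 : Y.Cls' 7 p ThK.K z (23, [[8, 6, 4, 6, 8, 6, 4, 6, 2, 4, 6, 0, 2, 4, 6, 1], [2, 4, 6, 0, 2, 4, 6, 8, 6, 4, 6, 2, 4, 6, 2, 0, 3, 5, 7]], 6) :=
  Or.inr (ThQ.gens.classes (wsub_le_gsub 2 _ _) en23 Nat.prime_two
    (not_dvd_relIndex (wsub_le_gsub 2 _ _) cS23 (en23.card ed23) (by norm_num)) ee23 (AllP.nil))
theorem gU25 : ThQ.X.Gens TU25 (atm 2 (wv 7 p [[4, 6, 0, 2, 4, 6, 8, 6, 4, 6, 2, 4, 6, 8, 2, 0, 3, 5], [13, 8, 2, 4, 6, 0, 2, 4, 6, 4]])) := ThQ.gens.words TU25ok tw25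
theorem cS25 : Nat.card (wsub 7 p [[4, 6, 0, 2, 4, 6, 8, 6, 4, 6, 2, 4, 6, 8, 2, 0, 3, 5], [13, 8, 2, 4, 6, 0, 2, 4, 6, 4]]) = 126 :=
  (ThC.done ThV.pres).card_S' (ThC.exact ThV.pres ThV.top ThZ.lbH) (x := (25, [[4, 6, 0, 2, 4, 6, 8, 6, 4, 6, 2, 4, 6, 8, 2, 0, 3, 5], [13, 8, 2, 4, 6, 0, 2, 4, 6, 4]], 126)) 7 rfl (by norm_num)
theorem en25 : ThQ.X.Enum (wsub 2 (wv 7 p [[4, 6, 0, 2, 4, 6, 8, 6, 4, 6, 2, 4, 6, 8, 2, 0, 3, 5], [13, 8, 2, 4, 6, 0, 2, 4, 6, 4]]) [[1, 2, 1, 1, 3]]) TL25 := gU25.enum ea25 eb25 ec25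
theorem cls25 : Y.Cls' 7 p ThK.K z (25, [[4, 6, 0, 2, 4, 6, 8, 6, 4, 6, 2, 4, 6, 8, 2, 0, 3, 5], [13, 8, 2, 4, 6, 0, 2, 4, 6, 4]], 126) :=
  Or.inr (ThQ.gens.classes (wsub_le_gsub 2 _ _) en25 Nat.prime_two
    (not_dvd_relIndex (wsub_le_gsub 2 _ _) cS25 (en25.card ed25) (by norm_num)) ee25 (AllP.nil))
theorem gU27 : ThQ.X.Gens TU27 (atm 2 (wv 7 p [[10, 6, 8, 11, 12, 6, 4, 6, 8, 10, 6, 0, 2, 4, 2, 0, 3, 7, 9, 10, 9], [11, 8, 10, 13, 6, 8, 11, 4, 6, 2, 4, 6, 8, 6, 2, 0, 3, 5, 10, 9, 7, 5, 11]])) := ThQ.gens.words TU27ok tw27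
theorem cS27 : Nat.card (wsub 7 p [[10, 6, 8, 11, 12, 6, 4, 6, 8, 10, 6, 0, 2, 4, 2, 0, 3, 7, 9, 10, 9], [11, 8, 10, 13, 6, 8, 11, 4, 6, 2, 4, 6, 8, 6, 2, 0, 3, 5, 10, 9, 7, 5, 11]]) = 72 :=
  (ThC.done ThV.pres).card_S' (ThC.exact ThV.pres ThV.top ThZ.lbH) (x := (27, [[10, 6, 8, 11, 12, 6, 4, 6, 8, 10, 6, 0, 2, 4, 2, 0, 3, 7, 9, 10, 9], [11, 8, 10, 13, 6, 8, 11, 4, 6, 2, 4, 6, 8, 6, 2, 0, 3, 5, 10, 9, 7, 5, 11]], 72)) 8 rfl (by norm_num)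
theorem en27 : ThQ.X.Enum (wsub 2 (wv 7 p [[10, 6, 8, 11, 12, 6, 4, 6, 8, 10, 6, 0, 2, 4, 2, 0, 3, 7, 9, 10, 9], [11, 8, 10, 13, 6, 8, 11, 4, 6, 2, 4, 6, 8, 6, 2, 0, 3, 5, 10, 9, 7, 5, 11]]) [[1, 1, 1], [0, 2, 1, 3]]) TL27 := gU27.enum ea27 eb27 ec27
theorem cls27 : Y.Cls' 7 p ThK.K z (27, [[10, 6, 8, 11, 12, 6, 4, 6, 8, 10, 6, 0, 2, 4, 2, 0, 3, 7, 9, 10, 9], [11, 8, 10, 13, 6, 8, 11, 4, 6, 2, 4, 6, 8, 6, 2, 0, 3, 5, 10, 9, 7, 5, 11]], 72) :=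
  Or.inr (ThQ.gens.classes (wsub_le_gsub 2 _ _) en27 Nat.prime_two
    (not_dvd_relIndex (wsub_le_gsub 2 _ _) cS27 (en27.card ed27) (by norm_num)) ee27 (AllP.nil))
theorem gU28 : ThQ.X.Gens TU28 (atm 2 (wv 7 p [[10, 6, 8, 10, 2, 4, 6, 8, 11, 4, 6, 8, 4, 6, 4, 3, 1, 5, 7, 9, 7, 5, 12, 10, 9], [13, 11, 6, 8, 2, 4, 6, 4, 6, 8, 10, 10, 2, 4, 6, 5, 9, 7, 5, 3, 10, 9, 7, 5, 3, 10]])) := ThQ.gens.words TU28ok tw28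
theorem cS28 : Nat.card (wsub 7 p [[10, 6, 8, 10, 2, 4, 6, 8, 11, 4, 6, 8, 4, 6, 4, 3, 1, 5, 7, 9, 7, 5, 12, 10, 9], [13, 11, 6, 8, 2, 4, 6, 4, 6, 8, 10, 10, 2, 4, 6, 5, 9, 7, 5, 3, 10, 9, 7, 5, 3, 10]]) = 3528 :=
  (ThC.done ThV.pres).card_S' (ThC.exact ThV.pres ThV.top ThZ.lbH) (x := (28, [[10, 6, 8, 10, 2, 4, 6, 8, 11, 4, 6, 8, 4, 6, 4, 3, 1, 5, 7, 9, 7, 5, 12, 10, 9], [13, 11, 6, 8, 2, 4, 6, 4, 6, 8, 10, 10, 2, 4, 6, 5, 9, 7, 5, 3, 10, 9, 7, 5, 3, 10]], 3528)) 9 rfl (by norm_num)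
theorem en28 : ThQ.X.Enum (wsub 2 (wv 7 p [[10, 6, 8, 10, 2, 4, 6, 8, 11, 4, 6, 8, 4, 6, 4, 3, 1, 5, 7, 9, 7, 5, 12, 10, 9], [13, 11, 6, 8, 2, 4, 6, 4, 6, 8, 10, 10, 2, 4, 6, 5, 9, 7, 5, 3, 10, 9, 7, 5, 3, 10]]) [[3, 3, 1, 3, 3, 0, 2], [1, 2, 0, 0, 0, 0, 3]]) TL28 := gU28.enum ea28 eb28 ec28
theorem cls28 : Y.Cls' 7 p ThK.K z (28, [[10, 6, 8, 10, 2, 4, 6, 8, 11, 4, 6, 8, 4, 6, 4, 3, 1, 5, 7, 9, 7, 5, 12, 10, 9], [13, 11, 6, 8, 2, 4, 6, 4, 6, 8, 10, 10, 2, 4, 6, 5, 9, 7, 5, 3, 10, 9, 7, 5, 3, 10]], 3528) :=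
  Or.inr (ThQ.gens.classes (wsub_le_gsub 2 _ _) en28 Nat.prime_two
    (not_dvd_relIndex (wsub_le_gsub 2 _ _) cS28 (en28.card ed28) (by norm_num)) ee28 (AllP.nil))
theorem gU29 : ThQ.X.Gens TU29 (atm 2 (wv 7 p [[10, 6, 8, 11, 4, 6, 4, 6, 8, 11, 8, 6, 2, 4, 6, 3, 5, 3, 9, 7, 5, 3, 10, 10, 10, 9, 7], [10, 8, 11, 4, 6, 8, 10, 2, 4, 6, 8, 0, 2, 4, 6, 3, 5, 3, 7, 9, 7, 13, 11, 9]])) := ThQ.gens.words TU29ok tw29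
theorem cS29 : Nat.card (wsub 7 p [[10, 6, 8, 11, 4, 6, 4, 6, 8, 11, 8, 6, 2, 4, 6, 3, 5, 3, 9, 7, 5, 3, 10, 10, 10, 9, 7], [10, 8, 11, 4, 6, 8, 10, 2, 4, 6, 8, 0, 2, 4, 6, 3, 5, 3, 7, 9, 7, 13, 11, 9]]) = 78 :=
  (ThC.done ThV.pres).card_S' (ThC.exact ThV.pres ThV.top ThZ.lbH) (x := (29, [[10, 6, 8, 11, 4, 6, 4, 6, 8, 11, 8, 6, 2, 4, 6, 3, 5, 3, 9, 7, 5, 3, 10, 10, 10, 9, 7], [10, 8, 11, 4, 6, 8, 10, 2, 4, 6, 8, 0, 2, 4, 6, 3, 5, 3, 7, 9, 7, 13, 11, 9]], 78)) 10 rfl (by norm_num)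
theorem en29 : ThQ.X.Enum (wsub 2 (wv 7 p [[10, 6, 8, 11, 4, 6, 4, 6, 8, 11, 8, 6, 2, 4, 6, 3, 5, 3, 9, 7, 5, 3, 10, 10, 10, 9, 7], [10, 8, 11, 4, 6, 8, 10, 2, 4, 6, 8, 0, 2, 4, 6, 3, 5, 3, 7, 9, 7, 13, 11, 9]]) [[2, 0, 3, 0, 3, 0, 2]]) TL29 := gU29.enum ea29 eb29 ec29
theorem cls29 : Y.Cls' 7 p ThK.K z (29, [[10, 6, 8, 11, 4, 6, 4, 6, 8, 11, 8, 6, 2, 4, 6, 3, 5, 3, 9, 7, 5, 3, 10, 10, 10, 9, 7], [10, 8, 11, 4, 6, 8, 10, 2, 4, 6, 8, 0, 2, 4, 6, 3, 5, 3, 7, 9, 7, 13, 11, 9]], 78) :=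
  Or.inr (ThQ.gens.classes (wsub_le_gsub 2 _ _) en29 Nat.prime_two
    (not_dvd_relIndex (wsub_le_gsub 2 _ _) cS29 (en29.card ed29) (by norm_num)) ee29 (AllP.nil))
theorem cenH : Subgroup.centralizer {z} = wsub 7 p ThD.BW :=
  centralizer_eq_of_coatom ThD.coatomP commH (y := ev (atm 7 p) [2]) (by
    rw [← ev_lapp, ← ev_lapp]; exact ThR.gens.neq ThR.c2)
theorem cent : Subgroup.centralizer {ThV.X.el ThV.ga} = ThK.K := by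
  rw [← elz]
  exact (ThC.done ThV.pres).cent' (ThC.gtop ThV.pres ThV.top) (ThC.exact ThV.pres ThV.top ThZ.lbH)
    (elz ▸ commK)
    (fun u hu => subK ⟨u, cenH ▸ Subgroup.mem_centralizer_singleton_iff.mpr hu, rfl⟩)
    (AllP.cons (Or.inl rfl) (AllP.cons cls1 (AllP.cons cls15 (AllP.cons cls19 (AllP.cons cls21 (AllP.cons cls22 (AllP.cons cls23 (AllP.cons cls25 (AllP.cons cls27 (AllP.cons cls28 (AllP.cons cls29 (AllP.nil))))))))))))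

end Cfsg.Agent.Spor.ThB
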